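import Mathlib

/-!
# Recognising the groups of order 2, 4, 8 that occur as outer groups of orthogonal groups (helper205)

* `exists_of_comap` : a homomorphism on `S` descends along `Θ : S →* A` to the subgroup `Θ.range`;
* `exists_hom_two`, `exists_hom_four`, `exists_hom_klein`, `exists_hom_dihedral`: surjections of `P` onto
  `C₂`, `C₄`, `C₂ × C₂`, `D₈` with kernel `I`, from relations modulo `I`.
-/

set_option autoImplicit false
set_option linter.style.haveILetI false

namespace Cfsg.Agent.H205.Abs

/-- A homomorphism descends along a surjection onto a subgroup. -/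
theorem exists_of_comap {S A H : Type*} [Group S] [Group A] [Group H] (Θ : S →* A) {P I : Subgroup A}
    (hP : P = Θ.range) (f : S →* H) (hf : Function.Surjective f) (hk : f.ker = I.comap Θ) :
    ∃ φ : ↥P →* H, Function.Surjective φ ∧ φ.ker = I.subgroupOf P := by
  subst hP
  have h1 : Function.Surjective Θ.rangeRestrict := Θ.rangeRestrict_surjective
  have h2 : Θ.rangeRestrict.ker ≤ f.ker := by
    rw [hk, MonoidHom.ker_rangeRestrict]
    intro x hx
    rw [Subgroup.mem_comap, MonoidHom.mem_ker.1 hx]
    exact one_mem I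
  let φ : ↥Θ.range →* H := Θ.rangeRestrict.liftOfSurjective h1 ⟨f, h2⟩
  have h3 : ∀ x : S, φ (Θ.rangeRestrict x) = f x := fun x =>
    MonoidHom.liftOfRightInverse_comp_apply _ _ _ ⟨f, h2⟩ x
  refine ⟨φ, fun y => ?_, ?_⟩
  · obtain ⟨x, rfl⟩ := hf y
    exact ⟨Θ.rangeRestrict x, h3 x⟩
  · ext y
    obtain ⟨x, rfl⟩ := h1 y
    rw [MonoidHom.mem_ker, h3, ← MonoidHom.mem_ker, hk, Subgroup.mem_comap, Subgroup.mem_subgroupOf]
    rfl

section Recog

variable {W : Type*} [Group W]

theorem two_of_card (h : Nat.card W = 2) : Nonempty (W ≃* Multiplicative (ZMod 2)) := by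
  haveI : Fact (Nat.Prime 2) := ⟨Nat.prime_two⟩
  exact ⟨mulEquivOfPrimeCardEq (p := 2) h (by simp)⟩

theorem four_of_card (h : Nat.card W = 4) {y : W} (hy : y * y ≠ 1) :
    Nonempty (W ≃* Multiplicative (ZMod 4)) := by
  haveI : Finite W := Nat.finite_of_card_ne_zero (by omega)
  have h1 : orderOf y = 2 ^ (1 + 1) := by
    apply orderOf_eq_prime_pow
    · rw [pow_one, pow_two]; exact hy
    · have := pow_card_eq_one' (x := y)
      rw [h] at this
      exact this
  have h2 : IsCyclic W := isCyclic_of_orderOf_eq_card y (by rw [h1, h]; norm_num)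
  haveI := h2
  exact ⟨mulEquivOfCyclicCardEq (by rw [h]; simp)⟩

theorem klein_of_card (h : Nat.card W = 4) (hW : ∀ y : W, y * y = 1) :
    Nonempty (W ≃* Multiplicative (ZMod 2 × ZMod 2)) := by
  haveI : Finite W := Nat.finite_of_card_ne_zero (by omega)
  haveI h1 : IsKleinFour W := by
    refine ⟨h, ?_⟩
    have h2 : Monoid.exponent W ∣ 2 := Monoid.exponent_dvd_of_forall_pow_eq_one fun y => by
      rw [pow_two]; exact hW y
    rcases (Nat.dvd_prime Nat.prime_two).1 h2 with h3 | h3
    · exfalso
      haveI := Monoid.exp_eq_one_iff.1 h3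
      have := Nat.card_of_subsingleton (1 : W)
      omega
    · exact h3
  haveI h4 : IsKleinFour (Multiplicative (ZMod 2 × ZMod 2)) := by
    refine ⟨by simp, ?_⟩
    have h2 : Monoid.exponent (Multiplicative (ZMod 2 × ZMod 2)) ∣ 2 :=
      Monoid.exponent_dvd_of_forall_pow_eq_one (by decide)
    rcases (Nat.dvd_prime Nat.prime_two).1 h2 with h3 | h3
    · exfalso
      haveI := Monoid.exp_eq_one_iff.1 h3
      have := Nat.card_of_subsingleton (1 : Multiplicative (ZMod 2 × ZMod 2))
      simp at this
    · exact h3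
  exact IsKleinFour.nonempty_mulEquiv

/-- powers of an element of order dividing 4, indexed by `ZMod 4` -/
def zp (c : W) (i : ZMod 4) : W := c ^ i.val

theorem zp_add {c : W} (hc : c ^ 4 = 1) (i j : ZMod 4) : zp c (i + j) = zp c i * zp c j := by
  unfold zp
  rw [← pow_add, ZMod.val_add, ← Nat.div_add_mod (i.val + j.val) 4]
  rw [pow_add c (4 * _), pow_mul, hc, one_pow, one_mul]
  simp

theorem zp_zero (c : W) : zp c 0 = 1 := by simp [zp]

theorem zp_neg {c : W} (hc : c ^ 4 = 1) (i : ZMod 4) : zp c (-i) = (zp c i)⁻¹ := by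
  apply eq_inv_of_mul_eq_one_left
  rw [← zp_add hc, neg_add_cancel, zp_zero]

theorem conj_zp {c t : W} (hc : c ^ 4 = 1) (ht : t * t = 1) (htc : t * c * t⁻¹ = c⁻¹) (i : ZMod 4) :
    zp c i * t = t * zp c (-i) := by
  rw [zp_neg hc]
  have h1 : t * zp c i * t⁻¹ = (zp c i)⁻¹ := by
    unfold zp
    rw [← conj_pow, htc, inv_pow]
  rw [← h1]
  have h2 : t * (t * zp c i * t⁻¹) = (t * t) * zp c i * t⁻¹ := by group
  rw [h2, ht, one_mul, inv_eq_of_mul_eq_one_left ht]

/-- the homomorphism `D₈ → W` -/
def psi {c t : W} (hc : c ^ 4 = 1) (ht : t * t = 1) (htc : t * c * t⁻¹ = c⁻¹) :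
    DihedralGroup 4 →* W where
  toFun := fun x => match x with
    | DihedralGroup.r i => zp c i
    | DihedralGroup.sr i => t * zp c i
  map_one' := by
    show zp c 0 = 1
    exact zp_zero c
  map_mul' := by
    rintro (i | i) (j | j)
    · show zp c (i + j) = _
      exact zp_add hc i j
    · show t * zp c (j - i) = zp c i * (t * zp c j)
      rw [← mul_assoc, conj_zp hc ht htc, mul_assoc, ← zp_add hc, sub_eq_neg_add]
    · show t * zp c (i + j) = _
      rw [zp_add hc, mul_assoc]
    · show zp c (j - i) = t * zp c i * (t * zp c j)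
      rw [← mul_assoc, mul_assoc t, conj_zp hc ht htc, ← mul_assoc, ht, one_mul, ← zp_add hc,
        sub_eq_neg_add]

/-- A group of order eight with a non-central involution is dihedral. -/
theorem dihedral_of_card (h : Nat.card W = 8) {x y : W} (hx : x * x = 1) (hxy : x * y ≠ y * x) :
    Nonempty (W ≃* DihedralGroup 4) := by
  haveI : Finite W := Nat.finite_of_card_ne_zero (by omega)
  -- an element of order four
  obtain ⟨r, hr⟩ : ∃ r : W, orderOf r = 4 := by
    by_contra hno
    push Not at hno
    have h1 : ∀ w : W, w * w = 1 := by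
      intro w
      have h2 : orderOf w ∣ 2 ^ 3 := by
        have := orderOf_dvd_natCard w
        rwa [h] at this
      obtain ⟨k, hk, hk2⟩ := (Nat.dvd_prime_pow Nat.prime_two).1 h2
      interval_cases k
      · rw [pow_zero, orderOf_eq_one_iff] at hk2
        rw [hk2, one_mul]
      · rw [pow_one] at hk2
        rw [← pow_two, ← hk2, pow_orderOf_eq_one]
      · exact absurd hk2 (hno w)
      · exfalso
        have h3 : IsCyclic W := isCyclic_of_orderOf_eq_card w (by rw [hk2, h]; norm_num)
        letI := IsCyclic.commGroup (α := W)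
        exact hxy (mul_comm x y)
    apply hxy
    have h2 := h1 (x * y)
    have h3 := h1 x
    have h4 := h1 y
    have h5 : (x * y)⁻¹ = x * y := inv_eq_of_mul_eq_one_left h2
    rw [mul_inv_rev, inv_eq_of_mul_eq_one_left h3, inv_eq_of_mul_eq_one_left h4] at h5
    exact h5.symm
  have hr4 : r ^ 4 = 1 := by rw [← hr, pow_orderOf_eq_one]
  have hr2 : r ^ 2 ≠ 1 := by
    intro h1
    have := orderOf_dvd_of_pow_eq_one h1
    rw [hr] at this
    omega
  have hidx : (Subgroup.zpowers r).index = 2 := by
    have h1 := (Subgroup.zpowers r).card_mul_index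
    rw [Nat.card_zpowers, hr, h] at h1
    omega
  have hn : (Subgroup.zpowers r).Normal := Subgroup.normal_of_index_eq_two hidx
  have hmem : ∀ w ∈ Subgroup.zpowers r, ∃ i : ZMod 4, w = zp r i := by
    intro w hw
    obtain ⟨k, rfl⟩ := hw
    refine ⟨((k % 4).toNat : ZMod 4), ?_⟩
    unfold zp
    rw [ZMod.val_natCast, Nat.mod_eq_of_lt (by omega)]
    change r ^ k = _
    rw [← zpow_natCast, Int.toNat_of_nonneg (by omega), ← zpow_mod_orderOf, hr]
    rfl
  have hconj : ∀ w : W, w * r * w⁻¹ = r ∨ w * r * w⁻¹ = r⁻¹ := by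
    intro w
    obtain ⟨i, hi⟩ := hmem _ (hn.conj_mem r (Subgroup.mem_zpowers r) w)
    have h1 : (w * r * w⁻¹) ^ 2 ≠ 1 := by
      rw [conj_pow]
      intro h2
      apply hr2
      have h3 := congrArg (fun z => w⁻¹ * z * w) h2
      simpa [mul_assoc] using h3
    rw [hi] at h1 ⊢
    unfold zp at h1 ⊢
    fin_cases i
    · exfalso; apply h1
      show (r ^ 0) ^ 2 = 1
      simp
    · left
      show r ^ 1 = r
      rw [pow_one]
    · exfalso
      apply h1
      show (r ^ 2) ^ 2 = 1
      rw [← pow_mul]; exact hr4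
    · right
      show r ^ 3 = r⁻¹
      rw [eq_inv_iff_mul_eq_one, ← pow_succ]
      exact hr4
  have hxr : x ∉ Subgroup.zpowers r := by
    intro h1
    obtain ⟨i, hi⟩ := hmem x h1
    have hx1 : x ≠ 1 := by rintro rfl; apply hxy; rw [one_mul, mul_one]
    have hx2 : x = r ^ 2 := by
      rw [hi] at hx hx1 ⊢
      unfold zp at hx hx1 ⊢
      fin_cases i
      · exfalso; apply hx1
        show r ^ 0 = 1
        simp
      · exfalso
        apply hr2
        have h3 : r ^ 1 * r ^ 1 = 1 := hx
        rwa [pow_one, ← pow_two] at h3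
      · rfl
      · exfalso
        have h3 : r ^ 3 * r ^ 3 = 1 := hx
        apply hr2
        rw [← pow_add] at h3
        calc r ^ 2 = r ^ (3 + 3) * (r ^ 4)⁻¹ := by group
          _ = 1 := by rw [h3, hr4]; simp
    apply hxy
    have h4 : y * x * y⁻¹ = x := by
      rw [hx2, ← conj_pow]
      rcases hconj y with h5 | h5
      · rw [h5]
      · rw [h5, inv_pow, inv_eq_iff_mul_eq_one, ← pow_add]
        exact hr4
    calc x * y = y * x * y⁻¹ * y := by rw [h4]
      _ = y * x := by group
  have hor : ∀ w : W, w ∈ Subgroup.zpowers r ∨ x * w ∈ Subgroup.zpowers r := by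
    intro w
    by_cases h1 : w ∈ Subgroup.zpowers r
    · exact Or.inl h1
    · right
      have h2 := (Subgroup.mul_mem_iff_of_index_two hidx (a := x) (b := w)).2
      exact h2 ⟨fun h3 => absurd h3 hxr, fun h3 => absurd h3 h1⟩
  have hxc : x * r * x⁻¹ = r⁻¹ := by
    rcases hconj x with h1 | h1
    · exfalso
      have h2 : x * r = r * x := by
        calc x * r = x * r * x⁻¹ * x := by group
          _ = r * x := by rw [h1]
      have h3 : ∀ w ∈ Subgroup.zpowers r, x * w = w * x := by
        rintro w ⟨k, rfl⟩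
        exact (Commute.zpow_right (show Commute x r from h2) k)
      apply hxy
      rcases hor y with h4 | h4
      · exact h3 y h4
      · have h5 := h3 _ h4
        have h6 : x * (x * y) = x * (y * x) := by rw [h5, mul_assoc]
        exact mul_left_cancel h6
    · exact h1
  -- the isomorphism
  have hinj : Function.Injective (psi hr4 hx hxc) := by
    rw [injective_iff_map_eq_one]
    rintro (i | i) hi
    · have h1 : zp r i = 1 := hi
      have h2 : i = 0 := by
        unfold zp at h1
        have h3 := orderOf_dvd_of_pow_eq_one h1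
        rw [hr] at h3
        have h4 := ZMod.val_lt i
        have h5 : i.val = 0 := by
          rcases Nat.eq_zero_or_pos i.val with h6 | h6
          · exact h6
          · exact absurd (Nat.le_of_dvd h6 h3) (by omega)
        exact (ZMod.val_eq_zero i).1 h5
      rw [h2]
      rfl
    · exfalso
      have h1 : x * zp r i = 1 := hi
      apply hxr
      rw [eq_inv_of_mul_eq_one_left h1]
      exact inv_mem (Subgroup.npow_mem_zpowers r _)
  have hbij : Function.Bijective (psi hr4 hx hxc) := by
    rw [Nat.bijective_iff_injective_and_card]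
    refine ⟨hinj, ?_⟩
    rw [h, DihedralGroup.nat_card]
  exact ⟨(MulEquiv.ofBijective _ hbij).symm⟩

end Recog

section Hom

variable {A : Type*} [Group A]

theorem exists_of_equiv {H : Type*} [Group H] {P I : Subgroup A} [(I.subgroupOf P).Normal]
    (e : Nonempty ((↥P ⧸ I.subgroupOf P) ≃* H)) :
    ∃ φ : ↥P →* H, Function.Surjective φ ∧ φ.ker = I.subgroupOf P := by
  obtain ⟨e⟩ := e
  refine ⟨e.toMonoidHom.comp (QuotientGroup.mk' _), e.surjective.comp (QuotientGroup.mk'_surjective _),
    ?_⟩
  ext x
  rw [MonoidHom.mem_ker, MonoidHom.comp_apply, MulEquiv.coe_toMonoidHom, map_eq_one_iff e e.injective,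
    QuotientGroup.mk'_apply, QuotientGroup.eq_one_iff]

theorem card_quot {P I : Subgroup A} : Nat.card (↥P ⧸ I.subgroupOf P) = I.relIndex P := rfl

/-- Index two: a surjection onto `C₂`. -/
theorem exists_hom_two {P I : Subgroup A} [hN : (I.subgroupOf P).Normal] (h : I.relIndex P = 2) :
    ∃ φ : ↥P →* Multiplicative (ZMod 2), Function.Surjective φ ∧ φ.ker = I.subgroupOf P :=
  exists_of_equiv (two_of_card h)

/-- Index four and an element with square outside `I`: a surjection onto `C₄`. -/
theorem exists_hom_four {P I : Subgroup A} [hN : (I.subgroupOf P).Normal] (h : I.relIndex P = 4)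
    {y : A} (hy : y ∈ P) (hy2 : y * y ∉ I) :
    ∃ φ : ↥P →* Multiplicative (ZMod 4), Function.Surjective φ ∧ φ.ker = I.subgroupOf P := by
  refine exists_of_equiv (four_of_card h (y := QuotientGroup.mk ⟨y, hy⟩) ?_)
  rw [← QuotientGroup.mk_mul, Ne, QuotientGroup.eq_one_iff]
  exact hy2

/-- Index four and all squares in `I`: a surjection onto `C₂ × C₂`. -/
theorem exists_hom_klein {P I : Subgroup A} [hN : (I.subgroupOf P).Normal] (h : I.relIndex P = 4)
    (hP : ∀ y ∈ P, y * y ∈ I) :
    ∃ φ : ↥P →* Multiplicative (ZMod 2 × ZMod 2), Function.Surjective φ ∧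
      φ.ker = I.subgroupOf P := by
  refine exists_of_equiv (klein_of_card h fun y => ?_)
  obtain ⟨y, rfl⟩ := QuotientGroup.mk_surjective y
  rw [← QuotientGroup.mk_mul, QuotientGroup.eq_one_iff]
  exact hP y.1 y.2

/-- Index eight with an involution not central modulo `I`: a surjection onto `D₈`. -/
theorem exists_hom_dihedral {P I : Subgroup A} [hN : (I.subgroupOf P).Normal] (h : I.relIndex P = 8)
    {x y : A} (hx : x ∈ P) (hy : y ∈ P) (hx2 : x * x ∈ I) (hxy : (x * y)⁻¹ * (y * x) ∉ I) :
    ∃ φ : ↥P →* DihedralGroup 4, Function.Surjective φ ∧ φ.ker = I.subgroupOf P := by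
  refine exists_of_equiv (dihedral_of_card h (x := QuotientGroup.mk ⟨x, hx⟩)
    (y := QuotientGroup.mk ⟨y, hy⟩) ?_ ?_)
  · rw [← QuotientGroup.mk_mul, QuotientGroup.eq_one_iff]
    exact hx2
  · rw [← QuotientGroup.mk_mul, ← QuotientGroup.mk_mul, Ne, QuotientGroup.eq]
    exact hxy

end Hom

end Cfsg.Agent.H205.Abs
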