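import Mathlib
import Cfsg.Agent.ClassicalGeometry.OmegaIndex
import Cfsg.Agent.H198.ClassesPlus
import Cfsg.Agent.H205.Abs

/-!
# Outer groups of even-dimensional orthogonal groups in odd characteristic (helper205)

`Q : QuadraticForm F (ι → F)` with `Good Q`, `F` finite with `2 ≠ 0`, `Fintype.card ι = 2 * n`.

* `det_sq : dt g ^ 2 = mu g ^ card ι` (`mu`, `dt` of `H198.ClassesPlus`: multiplier, determinant);
* `eta hG n : Sim Q →* Fˣ`, `eta g = dt g / mu g ^ n = ±1`, `etaS` its values in `ℤˣ`;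
* `chi : Fˣ →* ℤˣ` the quadratic character;
* `mem_pso_iff`, `mem_inn_iff` : when does a similarity / an isometry induce an element of `psoAut` / `Inn`.
-/

set_option autoImplicit false
set_option linter.style.haveILetI false
set_option linter.unusedSectionVars false

namespace Cfsg.Agent.H205.Gen

open Matrix QuadraticMap
open Cfsg.Agent.LieClassical.OrthCore Cfsg.Agent.LieClassical.OrthTrans
open Cfsg.Agent.H198.OrthFrame
open Cfsg.Agent.H198.ClassesPlus (mu mu_spec mu_unique mu_eq_one_iff dt dt_apply)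
open Cfsg.Agent.ClassicalGeometry.Reflection Cfsg.Agent.ClassicalGeometry.SpinorSign
open Cfsg.Agent.ClassicalGeometry.OmegaIndex Cfsg.Agent.ClassicalGeometry.Universal

universe u

variable {ι : Type} [Fintype ι] [DecidableEq ι] {F : Type u} [Field F]
variable {Q : QuadraticForm F (ι → F)}

/-! ### The multiplier -/

theorem coe_mulVec_mul (g h : GL ι F) (v : ι → F) :
    ((g * h : GL ι F) : Matrix ι ι F) *ᵥ v = (g : Matrix ι ι F) *ᵥ ((h : Matrix ι ι F) *ᵥ v) := by
  rw [Units.val_mul, mulVec_mulVec]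

theorem mu_eq (hG : Good Q) {g : Sim Q} {c : Fˣ}
    (h : ∀ v, Q ((g.1 : Matrix ι ι F) *ᵥ v) = (c : F) * Q v) : mu hG g = c := mu_unique hG g h

theorem polar_mulVec (hG : Good Q) (g : Sim Q) (v w : ι → F) :
    polar Q ((g.1 : Matrix ι ι F) *ᵥ v) ((g.1 : Matrix ι ι F) *ᵥ w) = (mu hG g : F) * polar Q v w := by
  simp only [polar, ← mulVec_add, mu_spec hG]
  ring

/-- The isometries as similarities. -/
def incI (Q : QuadraticForm F (ι → F)) : isometryGroup F (⇑Q) →* Sim Q :=
  Subgroup.inclusion (iso_le_sim Q)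

theorem coe_incI (s : isometryGroup F (⇑Q)) : (incI Q s).1 = s.1 := rfl

theorem mu_incI (hG : Good Q) (s : isometryGroup F (⇑Q)) : mu hG (incI Q s) = 1 :=
  mu_eq hG fun v => by rw [Units.val_one, one_mul]; exact s.2 v v

theorem mem_iso_of_mu (hG : Good Q) {g : Sim Q} (h : mu hG g = 1) : g.1 ∈ isometryGroup F (⇑Q) := by
  rw [mem_isometryGroup_iff]
  intro v
  rw [mu_spec hG, h, Units.val_one, one_mul]

/-- The scalars as elements of the general linear group. -/
def scG (ι : Type) [Fintype ι] [DecidableEq ι] (F : Type u) [Field F] : Fˣ →* GL ι F :=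
  Units.map (Matrix.scalar ι : F →+* Matrix ι ι F).toMonoidHom

theorem coe_scG (a : Fˣ) : (scG ι F a : Matrix ι ι F) = (a : F) • (1 : Matrix ι ι F) := by
  change Matrix.scalar ι (a : F) = _
  rw [Matrix.scalar_apply, Matrix.smul_one_eq_diagonal]

theorem scG_mulVec (a : Fˣ) (v : ι → F) : (scG ι F a : Matrix ι ι F) *ᵥ v = (a : F) • v := by
  rw [coe_scG, smul_mulVec, one_mulVec]

theorem scG_mem (a : Fˣ) : scG ι F a ∈ Sim Q :=
  ⟨a * a, fun v => by rw [scG_mulVec, QuadraticMap.map_smul, Units.val_mul, smul_eq_mul]⟩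

/-- The scalars as similarities. -/
def scS (Q : QuadraticForm F (ι → F)) : Fˣ →* Sim Q := (scG ι F).codRestrict (Sim Q) fun a => scG_mem a

theorem scS_mulVec (a : Fˣ) (v : ι → F) : ((scS Q a).1 : Matrix ι ι F) *ᵥ v = (a : F) • v :=
  scG_mulVec a v

theorem mu_scS (hG : Good Q) (a : Fˣ) : mu hG (scS Q a) = a * a :=
  mu_eq hG fun v => by rw [scS_mulVec, QuadraticMap.map_smul, Units.val_mul, smul_eq_mul]

theorem scS_comm (a : Fˣ) (g : Sim Q) : scS Q a * g = g * scS Q a := by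
  apply Subtype.ext
  apply Units.ext
  change (scG ι F a : Matrix ι ι F) * (g.1 : Matrix ι ι F) = (g.1 : Matrix ι ι F) * (scG ι F a : Matrix ι ι F)
  rw [coe_scG, smul_mul_assoc, mul_smul_comm, one_mul, mul_one]

theorem S_scS (hG : Good Q) (a : Fˣ) : S hG (scS Q a) = 1 :=
  (S_eq_one_iff hG _).2 ⟨a, coe_scG a⟩

theorem S_eq_iff (hG : Good Q) (g h : Sim Q) : S hG g = S hG h ↔ ∃ a : Fˣ, g = scS Q a * h := by
  constructor
  · intro H
    have h1 : S hG (g * h⁻¹) = 1 := by rw [map_mul, map_inv, H, mul_inv_cancel]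
    obtain ⟨a, ha⟩ := (S_eq_one_iff hG _).1 h1
    refine ⟨a, ?_⟩
    rw [← mul_inv_eq_iff_eq_mul]
    apply Subtype.ext
    apply Units.ext
    rw [ha]
    exact (coe_scG a).symm
  · rintro ⟨a, rfl⟩
    rw [map_mul, S_scS, one_mul]

theorem S_scS_mul (hG : Good Q) (a : Fˣ) (g : Sim Q) : S hG (scS Q a * g) = S hG g := by
  rw [map_mul, S_scS, one_mul]

/-! ### The determinant -/

theorem dt_scS (a : Fˣ) : dt (scS Q a) = a ^ Fintype.card ι := by
  apply Units.ext
  rw [dt_apply, Units.val_pow_eq_pow_val]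
  change (scG ι F a : Matrix ι ι F).det = _
  rw [coe_scG, Matrix.det_smul, Matrix.det_one, mul_one]

theorem nondeg_bilin (hG : Good Q) : (polarBilin Q).Nondegenerate := by
  refine ⟨fun x hx => hG.nondeg x hx, fun x hx => hG.nondeg x fun y => ?_⟩
  rw [polar_comm]
  exact hx y

theorem det_sq (hG : Good Q) (g : Sim Q) : dt g ^ 2 = mu hG g ^ Fintype.card ι := by
  apply Units.ext
  rw [Units.val_pow_eq_pow_val, Units.val_pow_eq_pow_val, dt_apply]
  set M : Matrix ι ι F := LinearMap.toMatrix₂' F (polarBilin Q) with hM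
  have h0 : M.det ≠ 0 := by
    rw [← LinearMap.nondegenerate_toLinearMap₂'_iff_det_ne_zero, hM, Matrix.toLinearMap₂'_toMatrix']
    exact nondeg_bilin hG
  have h1 : (g.1 : Matrix ι ι F)ᵀ * M * (g.1 : Matrix ι ι F) = (mu hG g : F) • M := by
    rw [hM, LinearMap.mul_toMatrix₂'_mul, transpose_transpose, ← map_smul]
    congr 1
    apply LinearMap.ext
    intro v
    apply LinearMap.ext
    intro w
    exact polar_mulVec hG g v w
  have h2 := congrArg Matrix.det h1
  rw [det_mul, det_mul, det_transpose, det_smul] at h2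
  apply mul_right_cancel₀ h0
  rw [← h2]
  ring

section Eta

variable (n : ℕ)

/-- `det g / mu g ^ n`. -/
noncomputable def eta (hG : Good Q) : Sim Q →* Fˣ := dt (Q := Q) * (mu hG ^ n)⁻¹

theorem eta_apply (hG : Good Q) (g : Sim Q) : eta n hG g = dt g * (mu hG g ^ n)⁻¹ := rfl

variable {n}

theorem eta_sq (hG : Good Q) (hn : Fintype.card ι = 2 * n) (g : Sim Q) : eta n hG g ^ 2 = 1 := by
  rw [eta_apply, mul_pow, det_sq hG, hn, inv_pow, ← pow_mul, mul_comm n 2, mul_inv_cancel]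

theorem eta_cases (hG : Good Q) (hn : Fintype.card ι = 2 * n) (g : Sim Q) :
    eta n hG g = 1 ∨ eta n hG g = -1 := by
  have h := eta_sq hG hn g
  have h1 : ((eta n hG g : F)) ^ 2 = 1 := by rw [← Units.val_pow_eq_pow_val, h, Units.val_one]
  rcases sq_eq_one_iff.1 h1 with h2 | h2
  · left; exact Units.ext h2
  · right; exact Units.ext h2

theorem eta_eq_one_iff (hG : Good Q) (g : Sim Q) : eta n hG g = 1 ↔ dt g = mu hG g ^ n := by
  rw [eta_apply, mul_inv_eq_one]

theorem eta_scS (hG : Good Q) (hn : Fintype.card ι = 2 * n) (a : Fˣ) : eta n hG (scS Q a) = 1 := by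
  rw [eta_eq_one_iff, dt_scS, mu_scS, hn, pow_mul, pow_two]

theorem eta_incI (hG : Good Q) (s : isometryGroup F (⇑Q)) :
    eta n hG (incI Q s) = dt (Q := Q) (incI Q s) := by
  rw [eta_apply, mu_incI, one_pow, inv_one, mul_one]

end Eta

/-! ### Signs -/

/-- `ℤˣ → Fˣ`. -/
def sgnF (F : Type u) [Field F] : ℤˣ →* Fˣ := Units.map (Int.castRingHom F).toMonoidHom

theorem sgnF_neg_one : sgnF F (-1) = -1 := by
  apply Units.ext
  change ((Int.castRingHom F) (-1)) = -1
  simp

theorem sgnF_injective (h2 : (2 : F) ≠ 0) : Function.Injective (sgnF F) := by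
  rw [injective_iff_map_eq_one]
  intro a ha
  rcases Int.units_eq_one_or a with h | h
  · exact h
  · exfalso
    rw [h, sgnF_neg_one] at ha
    exact neg_one_ne_one_units h2 ha

variable {n : ℕ}

theorem eta_mem_range (hG : Good Q) (hn : Fintype.card ι = 2 * n) (g : Sim Q) :
    eta n hG g ∈ (sgnF F).range := by
  rcases eta_cases hG hn g with h | h
  · exact ⟨1, by rw [map_one, h]⟩
  · exact ⟨-1, by rw [sgnF_neg_one, h]⟩

/-- The sign of a similarity: `1` on the proper ones. -/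
noncomputable def etaS (hG : Good Q) (h2 : (2 : F) ≠ 0) (hn : Fintype.card ι = 2 * n) :
    Sim Q →* ℤˣ :=
  (MonoidHom.ofInjective (sgnF_injective h2)).symm.toMonoidHom.comp
    ((eta n hG).codRestrict (sgnF F).range (eta_mem_range hG hn))

theorem sgnF_etaS (hG : Good Q) (h2 : (2 : F) ≠ 0) (hn : Fintype.card ι = 2 * n) (g : Sim Q) :
    sgnF F (etaS hG h2 hn g) = eta n hG g :=
  congrArg Subtype.val ((MonoidHom.ofInjective (sgnF_injective h2)).apply_symm_apply
    ((eta n hG).codRestrict (sgnF F).range (eta_mem_range hG hn) g))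

theorem etaS_eq_one_iff (hG : Good Q) (h2 : (2 : F) ≠ 0) (hn : Fintype.card ι = 2 * n) (g : Sim Q) :
    etaS hG h2 hn g = 1 ↔ dt g = mu hG g ^ n := by
  rw [← eta_eq_one_iff, ← sgnF_etaS hG h2 hn, map_eq_one_iff _ (sgnF_injective h2)]

theorem etaS_incI_eq_one_iff (hG : Good Q) (h2 : (2 : F) ≠ 0) (hn : Fintype.card ι = 2 * n)
    (s : isometryGroup F (⇑Q)) :
    etaS hG h2 hn (incI Q s) = 1 ↔ ((s : GL ι F) : Matrix ι ι F).det = 1 := by
  rw [etaS_eq_one_iff, mu_incI, one_pow, ← Units.val_inj, Units.val_one]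
  rfl

section Chi

variable [Finite F]

open scoped Classical in
/-- The quadratic character. -/
noncomputable def chi (F : Type u) [Field F] [Finite F] : Fˣ →* ℤˣ :=
  letI := Fintype.ofFinite F
  Units.map (quadraticChar F).toMonoidHom

theorem chi_eq_one_iff (a : Fˣ) : chi F a = 1 ↔ IsSquare (a : F) := by
  classical
  letI := Fintype.ofFinite F
  rw [← quadraticChar_one_iff_isSquare a.ne_zero, ← Units.val_inj, Units.val_one]
  have h : ((chi F a : ℤˣ) : ℤ) = quadraticChar F (a : F) := by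
    unfold chi
    simp only [Units.coe_map]
    rw [Subsingleton.elim (Fintype.ofFinite F) _]
    congr!
  rw [h]

theorem chi_eq_neg_one_iff (a : Fˣ) : chi F a = -1 ↔ ¬ IsSquare (a : F) := by
  rw [← chi_eq_one_iff]
  rcases Int.units_eq_one_or (chi F a) with h | h
  · rw [h]; decide
  · rw [h]; decide

theorem chi_mul_self (a : Fˣ) : chi F (a * a) = 1 := (chi_eq_one_iff _).2 ⟨a, by rw [Units.val_mul]⟩

end Chi

/-! ### `psoAut` inside `pgoAut` -/

section Pso

variable [Finite F]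

/-- A similarity induces an element of `psoAut` iff it is proper with square multiplier. -/
theorem mem_pso_iff (hG : Good Q) (hn : Fintype.card ι = 2 * n) (g : Sim Q) :
    S hG g ∈ psoAut F (⇑Q) ↔ chi F (mu hG g) = 1 ∧ dt g = mu hG g ^ n := by
  rw [psoAut_eq hG]
  constructor
  · rintro ⟨s, hs, hsg⟩
    have hs' : s.1 ∈ specialIsometryGL F (⇑Q) := hs
    obtain ⟨a, ha⟩ := (S_eq_iff hG g s).1 hsg.symm
    have h1 : mu hG s = 1 := by
      have := mu_incI hG ⟨s.1, hs'.1⟩
      exact this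
    have h2 : dt s = 1 := by
      apply Units.ext
      rw [dt_apply]
      have : (s.1 : GL ι F) ∈ Geo.specialLinear ι F := hs'.2
      simpa [Geo.specialLinear, MonoidHom.mem_ker, ← Units.val_inj] using this
    rw [ha, map_mul (mu hG), mu_scS, h1, mul_one, map_mul (dt (Q := Q)), dt_scS, h2, mul_one, hn,
      pow_mul, pow_two]
    exact ⟨chi_mul_self a, rfl⟩
  · rintro ⟨h1, h2⟩
    obtain ⟨r, hr⟩ := (chi_eq_one_iff _).1 h1
    have hr0 : r ≠ 0 := by
      rintro rfl
      rw [mul_zero] at hr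
      exact (mu hG g).ne_zero hr
    obtain ⟨a, ha⟩ : ∃ a : Fˣ, mu hG g = a * a := ⟨Units.mk0 r hr0, Units.ext hr⟩
    set s : Sim Q := scS Q a⁻¹ * g with hs
    have h3 : mu hG s = 1 := by
      rw [hs, map_mul, mu_scS, ha, ← mul_inv, inv_mul_cancel]
    have h4 : dt s = 1 := by
      rw [hs, map_mul, dt_scS, h2, ha, hn, pow_mul, ← mul_pow, inv_pow, pow_two,
        inv_mul_cancel, one_pow]
    refine ⟨s, ?_, by rw [hs, S_scS_mul]⟩
    refine ⟨mem_iso_of_mu hG h3, ?_⟩
    have h5 := congrArg Units.val h4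
    rw [dt_apply, Units.val_one] at h5
    simpa [Geo.specialLinear, MonoidHom.mem_ker, ← Units.val_inj] using h5

variable (hG : Good Q) (h2 : (2 : F) ≠ 0) (hn : Fintype.card ι = 2 * n)

theorem mem_pso_iff' (g : Sim Q) :
    S hG g ∈ psoAut F (⇑Q) ↔ chi F (mu hG g) = 1 ∧ etaS hG h2 hn g = 1 := by
  rw [mem_pso_iff hG hn, etaS_eq_one_iff]

/-- There is a reflection. -/
theorem exists_improper : ∃ r : Sim Q, mu hG r = 1 ∧ etaS hG h2 hn r = -1 := by
  obtain ⟨v, hv⟩ := Cfsg.Agent.H198.ClassesPlus.exists_ne_zero_of_good hG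
  refine ⟨incI Q (reflIso Q v hv), mu_incI hG _, ?_⟩
  rcases Int.units_eq_one_or (etaS hG h2 hn (incI Q (reflIso Q v hv))) with h | h
  · exfalso
    rw [etaS_incI_eq_one_iff, det_reflIso] at h
    apply h2
    linear_combination -h
  · exact h

/-- `pgoAut / psoAut` is a four-group. -/
theorem exists_pair_hom {d : Sim Q} (hd : chi F (mu hG d) = -1) (hd2 : etaS hG h2 hn d = 1) :
    ∃ φ : ↥(pgoAut F (⇑Q)) →* ℤˣ × ℤˣ, Function.Surjective φ ∧
      φ.ker = (psoAut F (⇑Q)).subgroupOf (pgoAut F (⇑Q)) := by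
  refine Abs.exists_of_comap (S hG) (pgoAut_eq hG) (((chi F).comp (mu hG)).prod (etaS hG h2 hn)) ?_ ?_
  · obtain ⟨r, hr1, hr2⟩ := exists_improper hG h2 hn
    rintro ⟨x, y⟩
    rcases Int.units_eq_one_or x with hx | hx <;> rcases Int.units_eq_one_or y with hy | hy
    · exact ⟨1, by rw [map_one, hx, hy]; rfl⟩
    · refine ⟨r, ?_⟩
      rw [MonoidHom.prod_apply, MonoidHom.comp_apply, hr1, hr2, map_one, hx, hy]
    · refine ⟨d, ?_⟩
      rw [MonoidHom.prod_apply, MonoidHom.comp_apply, hd, hd2, hx, hy]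
    · refine ⟨r * d, ?_⟩
      rw [map_mul, MonoidHom.prod_apply, MonoidHom.comp_apply, hr1, hr2, map_one,
        MonoidHom.prod_apply, MonoidHom.comp_apply, hd, hd2, hx, hy]
      rfl
  · ext g
    rw [MonoidHom.mem_ker, MonoidHom.prod_apply, MonoidHom.comp_apply, Subgroup.mem_comap,
      mem_pso_iff' hG h2 hn, Prod.ext_iff]
    rfl

theorem pso_relIndex_pgo {d : Sim Q} (hd : chi F (mu hG d) = -1) (hd2 : etaS hG h2 hn d = 1) :
    (psoAut F (⇑Q)).relIndex (pgoAut F (⇑Q)) = 4 := by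
  obtain ⟨φ, h1, h3⟩ := exists_pair_hom hG h2 hn hd hd2
  rw [Subgroup.relIndex, ← h3, Subgroup.index_ker, MonoidHom.range_eq_top.2 h1, Subgroup.card_top]
  simp

theorem klein_of_pair {A : Type*} [Group A] {I : Subgroup A}
    (h : ∃ φ : A →* ℤˣ × ℤˣ, Function.Surjective φ ∧ φ.ker = I) :
    ∃ φ : A →* Multiplicative (ZMod 2 × ZMod 2), Function.Surjective φ ∧ φ.ker = I := by
  obtain ⟨φ, h1, h2⟩ := h
  obtain ⟨e⟩ := Abs.klein_of_card (W := ℤˣ × ℤˣ) (by simp) (by decide)
  refine ⟨e.toMonoidHom.comp φ, e.surjective.comp h1, ?_⟩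
  rw [← h2]
  ext x
  rw [MonoidHom.mem_ker, MonoidHom.mem_ker, MonoidHom.comp_apply, MulEquiv.coe_toMonoidHom,
    map_eq_one_iff e e.injective]

/-- **`pgoAut / psoAut` is elementary abelian of order four.** -/
theorem conformal_mod_special {d : Sim Q} (hd : chi F (mu hG d) = -1) (hd2 : etaS hG h2 hn d = 1) :
    ∃ φ : ↥(pgoAut F (⇑Q)) →* Multiplicative (ZMod 2 × ZMod 2), Function.Surjective φ ∧
      φ.ker = (psoAut F (⇑Q)).subgroupOf (pgoAut F (⇑Q)) :=
  klein_of_pair (exists_pair_hom hG h2 hn hd hd2)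

/-- The image of the proper similarities. -/
noncomputable def pd : Subgroup (MulAut (POmega F (⇑Q))) := (etaS hG h2 hn).ker.map (S hG)

theorem pso_relIndex_pd {d : Sim Q} (hd : chi F (mu hG d) = -1) (hd2 : etaS hG h2 hn d = 1) :
    (psoAut F (⇑Q)).relIndex (pd hG h2 hn) = 2 := by
  obtain ⟨φ, h1, h3⟩ := Abs.exists_of_comap (P := pd hG h2 hn) (I := psoAut F (⇑Q))
    ((S hG).comp (etaS hG h2 hn).ker.subtype)
    (by rw [MonoidHom.range_comp, Subgroup.range_subtype]; rfl)
    (((chi F).comp (mu hG)).comp (etaS hG h2 hn).ker.subtype) (by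
      intro x
      rcases Int.units_eq_one_or x with hx | hx
      · exact ⟨1, by rw [map_one, hx]⟩
      · exact ⟨⟨d, hd2⟩, by rw [hx]; exact hd⟩) (by
      ext g
      rw [MonoidHom.mem_ker, Subgroup.mem_comap, MonoidHom.comp_apply, MonoidHom.comp_apply,
        MonoidHom.comp_apply, Subgroup.coe_subtype, mem_pso_iff' hG h2 hn]
      exact ⟨fun h => ⟨h, g.2⟩, fun h => h.1⟩)
  rw [Subgroup.relIndex, ← h3, Subgroup.index_ker, MonoidHom.range_eq_top.2 h1, Subgroup.card_top]
  simp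

end Pso

end Cfsg.Agent.H205.Gen
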