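import Mathlib
import Cfsg.Agent.H205.Torus

/-!
# The plus-type orthogonal groups, odd characteristic: the pieces for S2722 to S2725 (helper205)
-/

set_option autoImplicit false
set_option linter.style.haveILetI false
set_option linter.unusedSectionVars false

namespace Cfsg.Agent.H205.PlusMain

open Matrix QuadraticMap
open Cfsg.Agent.LieClassical.OrthCore Cfsg.Agent.LieClassical.OrthTrans
open Cfsg.Agent.H198.OrthFrame Cfsg.Agent.H205.Gen Cfsg.Agent.H205.GenInn Cfsg.Agent.H205.Torus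
open Cfsg.Agent.H198.ClassesPlus (mu mu_spec mu_unique mu_eq_one_iff dt dt_apply)
open Cfsg.Agent.H198.Carriers

universe u

variable {F : Type u} [Field F]

theorem two_ne_zero_of_odd [Fintype F] (hodd : Odd (Fintype.card F)) : (2 : F) ≠ 0 := by
  intro h
  have h1 : ringChar F = 2 := by
    have h2 : ringChar F ∣ 2 := ringChar.dvd (by exact_mod_cast h)
    rcases (Nat.dvd_prime Nat.prime_two).1 h2 with h3 | h3
    · exact absurd h3 (CharP.ringChar_ne_one)
    · exact h3
  have h2 := FiniteField.even_card_of_char_two h1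
  rw [Nat.odd_iff] at hodd
  omega

theorem card_plus (m : ℕ) : Fintype.card (Fin m ⊕ Fin m) = 2 * m := by
  rw [Fintype.card_sum, Fintype.card_fin]; ring

/-- A unit which is not a square. -/
theorem exists_nonsq [Finite F] (h2 : (2 : F) ≠ 0) : ∃ c : Fˣ, chi F c = -1 := by
  obtain ⟨a, ha⟩ := FiniteField.exists_nonsquare
    (Cfsg.Agent.ClassicalGeometry.Universal.ringChar_ne_two h2)
  have ha0 : a ≠ 0 := by rintro rfl; exact ha IsSquare.zero
  exact ⟨Units.mk0 a ha0, (chi_eq_neg_one_iff _).2 ha⟩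

theorem chi_neg_one [Fintype F] : chi F (-1) = 1 ↔ Fintype.card F % 4 ≠ 3 := by
  rw [chi_eq_one_iff, Units.val_neg, Units.val_one, FiniteField.isSquare_neg_one_iff]

variable {m : ℕ}

theorem etaS_delP [Finite F] (hG : Good (plusQ m F)) (h2 : (2 : F) ≠ 0) (c : Fˣ) :
    etaS hG h2 (card_plus m) (delP m c) = 1 := by
  rw [etaS_eq_one_iff, dt_delP, mu_delP]

theorem chi_mu_delP [Finite F] (hG : Good (plusQ m F)) {c : Fˣ} (hc : chi F c = -1) :
    chi F (mu hG (delP m c)) = -1 := by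
  rw [mu_delP, hc]

/-- `-1 ∈ Ω⁺_{2m}(q)` unless `m` is odd and `q ≡ 3 (mod 4)`. -/
theorem sg_ngI_one [Fintype F] (h2 : (2 : F) ≠ 0) (h : ¬ (Odd m ∧ Fintype.card F % 4 = 3)) :
    sg (plusQ m F) (ngI (plusQ m F)) = 1 := by
  rw [sg_ngI_plus m h2]
  by_cases h1 : Fintype.card F % 4 = 3
  · have h3 : Even m := by
      rw [← Nat.not_odd_iff_even]
      exact fun h4 => h ⟨h4, h1⟩
    obtain ⟨k, rfl⟩ := h3
    rw [← two_mul, pow_mul, Int.units_sq, one_pow]
  · rw [chi_neg_one.2 h1, one_pow]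

theorem sg_ngI_neg_one [Fintype F] (h2 : (2 : F) ≠ 0) (h : Odd m ∧ Fintype.card F % 4 = 3) :
    sg (plusQ m F) (ngI (plusQ m F)) = -1 := by
  rw [sg_ngI_plus m h2]
  have h1 : chi F (-1) = -1 := by
    rcases Int.units_eq_one_or (chi F (-1)) with h3 | h3
    · exact absurd h.2 (chi_neg_one.1 h3)
    · exact h3
  rw [h1, h.1.neg_one_pow]

/-- `Inndiag(PΩ⁺_{2m}(F))` is the image of the proper similarities. -/
theorem inndiag_eq_pd [Finite F] (hG : Good (plusQ m F)) (h2 : (2 : F) ≠ 0) :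
    inndiagPOmegaPlus m F = pd hG h2 (card_plus m) := by
  rw [inndiag_plus_eq hG]
  unfold pd
  congr 1
  ext g
  rw [mem_simPlus, kappa_plusQ_iff hG h2, MonoidHom.mem_ker, etaS_eq_one_iff]

end Cfsg.Agent.H205.PlusMain
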