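import Mathlib
import Cfsg.Agent.H198.ClassesMinus
import Cfsg.Agent.H205.TorusMinus
import Cfsg.Agent.H205.PlusMain

/-!
# The minus-type orthogonal groups, odd characteristic: the pieces for S2726 to S2729 (helper205)
-/

set_option autoImplicit false
set_option linter.style.haveILetI false
set_option linter.unusedSectionVars false

namespace Cfsg.Agent.H205.MinusMain

open Matrix QuadraticMap
open Cfsg.Agent.LieClassical.OrthCore Cfsg.Agent.LieClassical.OrthTrans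
open Cfsg.Agent.H198.OrthFrame Cfsg.Agent.H205.Gen Cfsg.Agent.H205.GenInn Cfsg.Agent.H205.Torus
open Cfsg.Agent.H205.TorusMinus Cfsg.Agent.H205.PlusMain
open Cfsg.Agent.H198.ClassesPlus (mu mu_spec mu_unique mu_eq_one_iff dt dt_apply)
open Cfsg.Agent.H198.Carriers

universe u

variable {F : Type u} [Field F]

theorem card_minus (m : ℕ) : Fintype.card (Ix m) = 2 * (m + 1) := by
  rw [Fintype.card_sum, Fintype.card_sum, Fintype.card_fin, Fintype.card_fin]; ring

variable {m : ℕ} {a b : F}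
  (hab : ∀ z₁ z₂ : F, z₁ ^ 2 + a * z₁ * z₂ + b * z₂ ^ 2 = 0 → z₁ = 0 ∧ z₂ = 0)

theorem etaS_delM [Finite F] (hG : Good (minusQ m F a b)) (h2 : (2 : F) ≠ 0) {c x y : F}
    (hc : c ≠ 0) (h : x ^ 2 + a * x * y + b * y ^ 2 = c) :
    etaS hG h2 (card_minus m) (delM m a b hc h) = 1 := by
  rw [etaS_eq_one_iff, dt_delM, mu_delM]

theorem chi_mu_delM [Finite F] (hG : Good (minusQ m F a b)) {c x y : F}
    (hc : c ≠ 0) (h : x ^ 2 + a * x * y + b * y ^ 2 = c) (hc1 : chi F (Units.mk0 c hc) = -1) :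
    chi F (mu hG (delM m a b hc h)) = -1 := by
  rw [mu_delM, hc1]

include hab

theorem exists_del [Finite F] (h2 : (2 : F) ≠ 0) :
    ∃ (c x y : F) (hc : c ≠ 0), x ^ 2 + a * x * y + b * y ^ 2 = c ∧
      chi F (Units.mk0 c hc) = -1 := by
  obtain ⟨c, hc⟩ := exists_nonsq (F := F) h2
  obtain ⟨x, y, h⟩ := Cfsg.Agent.ClassicalGeometry.OrthSemiForms.exists_binary_eq a b hab (c : F)
  refine ⟨c, x, y, c.ne_zero, h, ?_⟩
  rw [Units.mk0_val, hc]

/-- `-1 ∈ Ω⁻_{2m+2}(q)` iff `m` is even and `q ≡ 3 (mod 4)`. -/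
theorem sg_ngI_one [Fintype F] (h2 : (2 : F) ≠ 0) (h : Even m ∧ Fintype.card F % 4 = 3) :
    sg (minusQ m F a b) (ngI (minusQ m F a b)) = 1 := by
  rw [sg_ngI_minus m a b hab h2]
  have h1 : chi F (-1) = -1 := by
    rcases Int.units_eq_one_or (chi F (-1)) with h3 | h3
    · exact absurd h.2 (chi_neg_one.1 h3)
    · exact h3
  rw [h1, h.1.add_one.neg_one_pow, neg_neg]

theorem sg_ngI_neg_one [Fintype F] (h2 : (2 : F) ≠ 0) (h : ¬ (Even m ∧ Fintype.card F % 4 = 3)) :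
    sg (minusQ m F a b) (ngI (minusQ m F a b)) = -1 := by
  rw [sg_ngI_minus m a b hab h2]
  congr 1
  by_cases h1 : Fintype.card F % 4 = 3
  · have h3 : Odd m := by
      rw [← Nat.not_even_iff_odd]
      exact fun h4 => h ⟨h4, h1⟩
    obtain ⟨k, hk⟩ := h3.add_one
    rw [hk, ← two_mul, pow_mul, Int.units_sq, one_pow]
  · rw [chi_neg_one.2 h1, one_pow]

/-- `Inndiag(PΩ⁻_{2m+2}(F))` is the image of the proper similarities. -/
theorem inndiag_eq_pd [Finite F] (hm : 2 ≤ m) (hG : Good (minusQ m F a b)) (h2 : (2 : F) ≠ 0) :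
    inndiagPOmegaMinus m F a b = pd hG h2 (card_minus m) := by
  rw [Cfsg.Agent.H198.ClassesMinus.inndiag_minus_eq hm hab hG]
  unfold pd
  congr 1
  ext g
  rw [Cfsg.Agent.H198.ClassesMinus.mem_simMinus, Cfsg.Agent.H198.ClassesMinus.kapM_iff hm hab hG h2,
    MonoidHom.mem_ker, etaS_eq_one_iff]

omit hab in
/-- The isometry `delM² / c` has spinor sign `(-1) ^ (m + 1)`. -/
theorem sg_sq [Finite F] (h2 : (2 : F) ≠ 0) {c x y : F} (hc : c ≠ 0)
    (h : x ^ 2 + a * x * y + b * y ^ 2 = c) (hc1 : chi F (Units.mk0 c hc) = -1) :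
    sg (minusQ m F a b) (torM m F a b (fun _ => Units.mk0 c hc) *
      rotM m a b (minusQ_bv_ne m a b hc h) (Q_one_ne m a b)) = (-1) ^ (m + 1) := by
  rw [map_mul, sg_torM_const m a b h2, sg_rotM m a b h2 hc h, hc1, pow_succ]

end Cfsg.Agent.H205.MinusMain
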